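import Cfsg.Agent.H323.Pw.Coset

/-!
# S2465, `F₄(2)`: products of two elements of order prime to `n` in a coset of a group of class two (helper335)

`QZ Q Z` : `Z ≤ Q` central, `[Q, Q] ≤ Z`.  `Nz Q Z a` : `a` normalises both.
* `cov` : the elements of `Q` of the form `⁅p, a⁆ * ⁅q, b⁆` modulo `Z`;
* `pr_of_mem` : `a * b * x`, `x ∈ cov`, is a product of two conjugates of `a` and `b`;
* `triple` : three hyperplanes with dependent equations cover `Q`.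
-/

set_option autoImplicit false

namespace Cfsg.Agent.H335.FT

open scoped commutatorElement
open Cfsg.Agent.H78.Pw

universe u

variable {G : Type u} [Group G]

/-- `Z ≤ Q` central, `[Q, Q] ≤ Z` -/
structure QZ (Q Z : Subgroup G) : Prop where
  le : Z ≤ Q
  cent : ∀ z ∈ Z, ∀ x ∈ Q, x * z * x⁻¹ = z
  comm : ∀ x ∈ Q, ∀ y ∈ Q, ⁅x, y⁆ ∈ Z

/-- `a` normalises `Q` and `Z` -/
structure Nz (Q Z : Subgroup G) (a : G) : Prop where
  q : ∀ x ∈ Q, a * x * a⁻¹ ∈ Q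
  q' : ∀ x ∈ Q, a⁻¹ * x * a ∈ Q
  z : ∀ x ∈ Z, a * x * a⁻¹ ∈ Z
  z' : ∀ x ∈ Z, a⁻¹ * x * a ∈ Z

variable {Q Z : Subgroup G}

theorem Nz.one : Nz Q Z (1 : G) :=
  ⟨fun x hx => by simpa using hx, fun x hx => by simpa using hx, fun x hx => by simpa using hx,
    fun x hx => by simpa using hx⟩

theorem Nz.inv {a : G} (h : Nz Q Z a) : Nz Q Z a⁻¹ :=
  ⟨fun x hx => by simpa using h.q' x hx, fun x hx => by simpa using h.q x hx,
    fun x hx => by simpa using h.z' x hx, fun x hx => by simpa using h.z x hx⟩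

theorem Nz.mul {a b : G} (ha : Nz Q Z a) (hb : Nz Q Z b) : Nz Q Z (a * b) := by
  refine ⟨fun x hx => ?_, fun x hx => ?_, fun x hx => ?_, fun x hx => ?_⟩
  · have := ha.q _ (hb.q x hx)
    rwa [show a * (b * x * b⁻¹) * a⁻¹ = a * b * x * (a * b)⁻¹ by group] at this
  · have := hb.q' _ (ha.q' x hx)
    rwa [show b⁻¹ * (a⁻¹ * x * a) * b = (a * b)⁻¹ * x * (a * b) by group] at this
  · have := ha.z _ (hb.z x hx)
    rwa [show a * (b * x * b⁻¹) * a⁻¹ = a * b * x * (a * b)⁻¹ by group] at this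
  · have := hb.z' _ (ha.z' x hx)
    rwa [show b⁻¹ * (a⁻¹ * x * a) * b = (a * b)⁻¹ * x * (a * b) by group] at this

theorem Nz.prod {l : List G} (h : ∀ a ∈ l, Nz Q Z a) : Nz Q Z l.prod := by
  induction l with
  | nil => rw [List.prod_nil]; exact Nz.one
  | cons a l ih =>
    rw [List.prod_cons]
    exact (h a List.mem_cons_self).mul (ih fun b hb => h b (List.mem_cons_of_mem _ hb))

/-- an involution, checked on generators -/
theorem Nz.of_gen {a : G} (ha : a * a = 1) {X Y : Set G} (hX : Subgroup.closure X = Q) (hY : Subgroup.closure Y = Z)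
    (h1 : ∀ x ∈ X, a * x * a⁻¹ ∈ Q) (h2 : ∀ x ∈ Y, a * x * a⁻¹ ∈ Z) : Nz Q Z a := by
  have hi : a⁻¹ = a := inv_eq_of_mul_eq_one_right ha
  have k1 : ∀ x ∈ Q, a * x * a⁻¹ ∈ Q := by
    intro x hx
    have : Q ≤ Q.comap (MulAut.conj a).toMonoidHom := by
      conv_lhs => rw [← hX]
      rw [Subgroup.closure_le]
      intro y hy
      exact h1 y hy
    exact this hx
  have k2 : ∀ x ∈ Z, a * x * a⁻¹ ∈ Z := by
    intro x hx
    have : Z ≤ Z.comap (MulAut.conj a).toMonoidHom := by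
      conv_lhs => rw [← hY]
      rw [Subgroup.closure_le]
      intro y hy
      exact h2 y hy
    exact this hx
  refine ⟨k1, fun x hx => ?_, k2, fun x hx => ?_⟩
  · have := k1 x hx
    rw [hi] at this ⊢
    exact this
  · have := k2 x hx
    rw [hi] at this ⊢
    exact this

theorem QZ.of_gen {X Y : Set G} (hX : Subgroup.closure X = Q) (hY : Subgroup.closure Y = Z) (hle : Z ≤ Q)
    (h1 : ∀ z ∈ Y, ∀ x ∈ X, z * x = x * z) (h2 : ∀ x ∈ X, ∀ y ∈ X, ∃ z ∈ Z, x * y = z * (y * x)) : QZ Q Z := by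
  have hc : ∀ z ∈ Z, ∀ x ∈ Q, x * z * x⁻¹ = z := by
    have k1 : ∀ z ∈ Y, ∀ x ∈ Q, x * z * x⁻¹ = z := by
      intro z hz x hx
      have : Q ≤ Subgroup.centralizer {z} := by
        rw [← hX, Subgroup.closure_le]
        intro y hy
        rw [SetLike.mem_coe, Subgroup.mem_centralizer_singleton_iff]
        exact (h1 z hz y hy).symm
      have h3 := Subgroup.mem_centralizer_singleton_iff.1 (this hx)
      rw [h3]; group
    intro z hz x hx
    have : Z ≤ Subgroup.centralizer {x} := by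
      rw [← hY, Subgroup.closure_le]
      intro y hy
      rw [SetLike.mem_coe, Subgroup.mem_centralizer_singleton_iff]
      have := k1 y hy x hx
      calc y * x = (x * y * x⁻¹) * x := by rw [this]
        _ = x * y := by group
    have h3 := Subgroup.mem_centralizer_singleton_iff.1 (this hz)
    rw [← h3]; group
  refine ⟨hle, hc, ?_⟩
  -- the commutators
  have key : ∀ y : G, y ∈ Q → ∀ x ∈ Q, ∀ x' ∈ Q, ⁅x, y⁆ ∈ Z → ⁅x', y⁆ ∈ Z → ⁅x * x', y⁆ ∈ Z := by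
    intro y _ x hx x' _ h3 h4
    have e : ⁅x * x', y⁆ = x * ⁅x', y⁆ * x⁻¹ * ⁅x, y⁆ := by simp only [commutatorElement_def]; group
    rw [e, hc _ h4 x hx]
    exact mul_mem h4 h3
  have kinv : ∀ y : G, y ∈ Q → ∀ x ∈ Q, ⁅x, y⁆ ∈ Z → ⁅x⁻¹, y⁆ ∈ Z := by
    intro y _ x hx h3
    have h4 := hc _ (inv_mem h3) x⁻¹ (inv_mem hx)
    have e : ⁅x⁻¹, y⁆ = x⁻¹ * ⁅x, y⁆⁻¹ * x⁻¹⁻¹ := by simp only [commutatorElement_def]; group
    rw [e, h4]
    exact inv_mem h3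
  have k2 : ∀ y ∈ X, ∀ x ∈ Q, ⁅x, y⁆ ∈ Z := by
    intro y hy x hx
    have hyQ : y ∈ Q := by rw [← hX]; exact Subgroup.subset_closure hy
    rw [← hX] at hx
    induction hx using Subgroup.closure_induction with
    | mem x hx =>
      obtain ⟨z, hz, e⟩ := h2 x hx y hy
      rw [commutatorElement_def, e]
      have : z * (y * x) * x⁻¹ * y⁻¹ = z := by group
      rw [this]; exact hz
    | one => rw [commutatorElement_one_left]; exact one_mem _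
    | mul a b ha hb iha ihb =>
      rw [hX] at ha hb
      exact key y hyQ a ha b hb iha ihb
    | inv a ha iha =>
      rw [hX] at ha
      exact kinv y hyQ a ha iha
  intro x hx y hy
  rw [← hX] at hy
  have hs : ∀ a b : G, ⁅a, b⁆ ∈ Z → ⁅b, a⁆ ∈ Z := by
    intro a b h
    rw [← commutatorElement_inv]
    exact inv_mem h
  refine hs _ _ ?_
  induction hy using Subgroup.closure_induction with
  | mem y hy => exact hs _ _ (k2 y hy x hx)
  | one => rw [commutatorElement_one_left]; exact one_mem _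
  | mul a b ha hb iha ihb =>
    rw [hX] at ha hb
    exact key x hx a ha b hb iha ihb
  | inv a ha iha =>
    rw [hX] at ha
    exact kinv x hx a ha iha

/-- the quotient `Q / Z` -/
theorem QZ.exists_model (h : QZ Q Z) : ∃ (A : Type u) (_ : CommGroup A) (f : ↥Q →* A),
    ∀ x y : ↥Q, (x : G)⁻¹ * y ∈ Z ↔ f x = f y := by
  have hn : (Z.subgroupOf Q).Normal := ⟨fun z hz x => by
    rw [Subgroup.mem_subgroupOf] at hz ⊢
    have := h.cent _ hz x x.2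
    rw [Subgroup.coe_mul, Subgroup.coe_mul, Subgroup.coe_inv, this]
    exact hz⟩
  have hc : ∀ x y : ↥Q ⧸ Z.subgroupOf Q, x * y = y * x := by
    intro x y
    obtain ⟨x, rfl⟩ := QuotientGroup.mk_surjective x
    obtain ⟨y, rfl⟩ := QuotientGroup.mk_surjective y
    rw [← QuotientGroup.mk_mul, ← QuotientGroup.mk_mul]
    apply Eq.symm
    rw [QuotientGroup.eq, Subgroup.mem_subgroupOf]
    have h1 := h.comm _ (inv_mem x.2) _ (inv_mem y.2)
    have e : ((((y * x : ↥Q))⁻¹ * (x * y) : ↥Q) : G) = ⁅(x : G)⁻¹, (y : G)⁻¹⁆ := by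
      simp only [commutatorElement_def, Subgroup.coe_mul, Subgroup.coe_inv]; group
    rw [e]; exact h1
  refine ⟨↥Q ⧸ Z.subgroupOf Q, { (inferInstance : Group (↥Q ⧸ Z.subgroupOf Q)) with mul_comm := hc },
    QuotientGroup.mk' (Z.subgroupOf Q), fun x y => ?_⟩
  change _ ↔ (QuotientGroup.mk x : ↥Q ⧸ Z.subgroupOf Q) = QuotientGroup.mk y
  rw [QuotientGroup.eq, Subgroup.mem_subgroupOf]
  rfl

theorem Nz.comm_mem {a : G} (ha : Nz Q Z a) {p : G} (hp : p ∈ Q) : ⁅p, a⁆ ∈ Q := by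
  have : ⁅p, a⁆ = p * (a * p⁻¹ * a⁻¹) := by rw [commutatorElement_def]; group
  rw [this]
  exact mul_mem hp (ha.q _ (inv_mem hp))

theorem f_mul {A : Type*} [CommGroup A] (f : ↥Q →* A) {a : G} (ha : Nz Q Z a) {p p' : G} (hp : p ∈ Q) (hp' : p' ∈ Q) :
    f ⟨⁅p * p', a⁆, ha.comm_mem (mul_mem hp hp')⟩ = f ⟨⁅p, a⁆, ha.comm_mem hp⟩ * f ⟨⁅p', a⁆, ha.comm_mem hp'⟩ := by
  have e : (⟨⁅p * p', a⁆, ha.comm_mem (mul_mem hp hp')⟩ : ↥Q) =
      ⟨p, hp⟩ * ⟨⁅p', a⁆, ha.comm_mem hp'⟩ * ⟨p, hp⟩⁻¹ * ⟨⁅p, a⁆, ha.comm_mem hp⟩ := by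
    apply Subtype.ext
    simp only [commutatorElement_def, Subgroup.coe_mul, Subgroup.coe_inv]; group
  rw [e, map_mul, map_mul, map_mul, map_inv, mul_comm (f ⟨p, hp⟩), mul_inv_cancel_right, mul_comm]

theorem f_inv {A : Type*} [CommGroup A] (f : ↥Q →* A) {a : G} (ha : Nz Q Z a) {p : G} (hp : p ∈ Q) :
    f ⟨⁅p⁻¹, a⁆, ha.comm_mem (inv_mem hp)⟩ = (f ⟨⁅p, a⁆, ha.comm_mem hp⟩)⁻¹ := by
  have h1 := f_mul f ha (inv_mem hp) hp
  have e : (⟨⁅p⁻¹ * p, a⁆, ha.comm_mem (mul_mem (inv_mem hp) hp)⟩ : ↥Q) = 1 := by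
    apply Subtype.ext
    simp only [commutatorElement_def, Subgroup.coe_one]; group
  rw [e, map_one] at h1
  exact eq_inv_of_mul_eq_one_left h1.symm

/-- the elements of `Q` of the form `⁅p, a⁆ * ⁅q, b⁆` modulo `Z` -/
def cov (h : QZ Q Z) {a b : G} (ha : Nz Q Z a) (hb : Nz Q Z b) : Subgroup G where
  carrier := {x | x ∈ Q ∧ ∃ p ∈ Q, ∃ q ∈ Q, x⁻¹ * (⁅p, a⁆ * ⁅q, b⁆) ∈ Z}
  one_mem' := ⟨one_mem _, 1, one_mem _, 1, one_mem _, by
    rw [commutatorElement_one_left, commutatorElement_one_left, inv_one, mul_one, mul_one]; exact one_mem _⟩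
  mul_mem' := by
    rintro x y ⟨hx, p, hp, q, hq, h1⟩ ⟨hy, p', hp', q', hq', h2⟩
    obtain ⟨A, _, f, hf⟩ := h.exists_model
    have k1 := (hf ⟨x, hx⟩ ⟨⁅p, a⁆ * ⁅q, b⁆, mul_mem (ha.comm_mem hp) (hb.comm_mem hq)⟩).1 h1
    have k2 := (hf ⟨y, hy⟩ ⟨⁅p', a⁆ * ⁅q', b⁆, mul_mem (ha.comm_mem hp') (hb.comm_mem hq')⟩).1 h2
    refine ⟨mul_mem hx hy, p * p', mul_mem hp hp', q * q', mul_mem hq hq', ?_⟩
    refine (hf ⟨x * y, mul_mem hx hy⟩ ⟨⁅p * p', a⁆ * ⁅q * q', b⁆, mul_mem (ha.comm_mem (mul_mem hp hp'))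
      (hb.comm_mem (mul_mem hq hq'))⟩).2 ?_
    have e1 : (⟨x * y, mul_mem hx hy⟩ : ↥Q) = ⟨x, hx⟩ * ⟨y, hy⟩ := rfl
    have e2 : (⟨⁅p, a⁆ * ⁅q, b⁆, mul_mem (ha.comm_mem hp) (hb.comm_mem hq)⟩ : ↥Q) =
      ⟨⁅p, a⁆, ha.comm_mem hp⟩ * ⟨⁅q, b⁆, hb.comm_mem hq⟩ := rfl
    have e3 : (⟨⁅p', a⁆ * ⁅q', b⁆, mul_mem (ha.comm_mem hp') (hb.comm_mem hq')⟩ : ↥Q) =
      ⟨⁅p', a⁆, ha.comm_mem hp'⟩ * ⟨⁅q', b⁆, hb.comm_mem hq'⟩ := rfl
    have e4 : (⟨⁅p * p', a⁆ * ⁅q * q', b⁆, mul_mem (ha.comm_mem (mul_mem hp hp'))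
      (hb.comm_mem (mul_mem hq hq'))⟩ : ↥Q) =
      ⟨⁅p * p', a⁆, ha.comm_mem (mul_mem hp hp')⟩ * ⟨⁅q * q', b⁆, hb.comm_mem (mul_mem hq hq')⟩ := rfl
    rw [e2, map_mul] at k1
    rw [e3, map_mul] at k2
    rw [e1, e4, map_mul, map_mul, k1, k2, f_mul f ha hp hp', f_mul f hb hq hq', mul_mul_mul_comm]
  inv_mem' := by
    rintro x ⟨hx, p, hp, q, hq, h1⟩
    obtain ⟨A, _, f, hf⟩ := h.exists_model
    have k1 := (hf ⟨x, hx⟩ ⟨⁅p, a⁆ * ⁅q, b⁆, mul_mem (ha.comm_mem hp) (hb.comm_mem hq)⟩).1 h1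
    refine ⟨inv_mem hx, p⁻¹, inv_mem hp, q⁻¹, inv_mem hq, ?_⟩
    refine (hf ⟨x⁻¹, inv_mem hx⟩ ⟨⁅p⁻¹, a⁆ * ⁅q⁻¹, b⁆, mul_mem (ha.comm_mem (inv_mem hp))
      (hb.comm_mem (inv_mem hq))⟩).2 ?_
    have e1 : (⟨x⁻¹, inv_mem hx⟩ : ↥Q) = ⟨x, hx⟩⁻¹ := rfl
    have e2 : (⟨⁅p, a⁆ * ⁅q, b⁆, mul_mem (ha.comm_mem hp) (hb.comm_mem hq)⟩ : ↥Q) =
      ⟨⁅p, a⁆, ha.comm_mem hp⟩ * ⟨⁅q, b⁆, hb.comm_mem hq⟩ := rfl
    have e4 : (⟨⁅p⁻¹, a⁆ * ⁅q⁻¹, b⁆, mul_mem (ha.comm_mem (inv_mem hp)) (hb.comm_mem (inv_mem hq))⟩ : ↥Q) =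
      ⟨⁅p⁻¹, a⁆, ha.comm_mem (inv_mem hp)⟩ * ⟨⁅q⁻¹, b⁆, hb.comm_mem (inv_mem hq)⟩ := rfl
    rw [e2, map_mul] at k1
    rw [e1, e4, map_mul, map_inv, k1, f_inv f ha hp, f_inv f hb hq, mul_inv]

section

variable (h : QZ Q Z) {a b : G} (ha : Nz Q Z a) (hb : Nz Q Z b)

theorem mem_cov {x : G} : x ∈ cov h ha hb ↔ x ∈ Q ∧ ∃ p ∈ Q, ∃ q ∈ Q, x⁻¹ * (⁅p, a⁆ * ⁅q, b⁆) ∈ Z := Iff.rfl

/-- certificate form -/
theorem mem_cov_of {x p q z : G} (hx : x ∈ Q) (hp : p ∈ Q) (hq : q ∈ Q) (hz : z ∈ Z)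
    (e : x * z = ⁅p, a⁆ * ⁅q, b⁆) : x ∈ cov h ha hb :=
  ⟨hx, p, hp, q, hq, by rw [← e, inv_mul_cancel_left]; exact hz⟩

theorem Z_le_cov : Z ≤ cov h ha hb := fun z hz => ⟨h.le hz, 1, one_mem _, 1, one_mem _, by
  rw [commutatorElement_one_left, commutatorElement_one_left, mul_one, mul_one]; exact inv_mem hz⟩

theorem cov_le : cov h ha hb ≤ Q := fun _ hx => hx.1

theorem conj_mem_cov {x : G} (hx : x ∈ cov h ha hb) : b * x * b⁻¹ ∈ cov h ha hb := by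
  have e : b * x * b⁻¹ = x * ⁅x⁻¹, b⁆ := by rw [commutatorElement_def]; group
  rw [e]
  refine mul_mem hx ⟨hb.comm_mem (inv_mem hx.1), 1, one_mem _, x⁻¹, inv_mem hx.1, ?_⟩
  rw [commutatorElement_one_left, one_mul, inv_mul_cancel]
  exact one_mem _

include h in
theorem comm_conj {u p : G} (hu : u ∈ Q) (ha : Nz Q Z a) (hp : p ∈ Z) : ⁅p, u * a * u⁻¹⁆ = ⁅p, a⁆ := by
  have h1 : u * p⁻¹ * u⁻¹ = p⁻¹ := h.cent _ (inv_mem hp) u hu
  have h1' : u⁻¹ * p⁻¹ * u = p⁻¹ := by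
    have := h.cent _ (inv_mem hp) u⁻¹ (inv_mem hu)
    rwa [inv_inv] at this
  have h2 : u * (a * p⁻¹ * a⁻¹) * u⁻¹ = a * p⁻¹ * a⁻¹ := h.cent _ (ha.z _ (inv_mem hp)) u hu
  have e : ⁅p, u * a * u⁻¹⁆ = p * (u * (a * (u⁻¹ * p⁻¹ * u) * a⁻¹) * u⁻¹) := by
    rw [commutatorElement_def]; group
  rw [e, h1', h2, commutatorElement_def]; group

/-- **One coset.** -/
theorem pr_of_mem {n : ℕ} (hz : ∀ x ∈ Z, ∃ p ∈ Z, ∃ q ∈ Z, x = ⁅p, a⁆ * ⁅q, b⁆)
    (oa : (orderOf a).Coprime n) (ob : (orderOf b).Coprime n) {x : G} (hx : x ∈ cov h ha hb) : Pr n (a * b * x) := by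
  obtain ⟨-, p, hp, q, hq, h1⟩ := conj_mem_cov h ha hb hx
  obtain ⟨u, hu⟩ : ∃ u, u = a * p * a⁻¹ := ⟨_, rfl⟩
  have huQ : u ∈ Q := by rw [hu]; exact ha.q _ hp
  obtain ⟨a', ha'⟩ : ∃ a', a' = u * a * u⁻¹ := ⟨_, rfl⟩
  obtain ⟨b', hb'⟩ : ∃ b', b' = q * b * q⁻¹ := ⟨_, rfl⟩
  obtain ⟨ζ, hζ⟩ : ∃ ζ, ζ = (a' * b')⁻¹ * (a * b * x) := ⟨_, rfl⟩
  have hζZ : ζ ∈ Z := by
    have e : ζ = b⁻¹ * ((b * x * b⁻¹)⁻¹ * (⁅p, a⁆ * ⁅q, b⁆))⁻¹ * b := by
      rw [hζ, ha', hb', hu]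
      simp only [commutatorElement_def]
      group
    rw [e]
    exact hb.z' _ (inv_mem h1)
  have e1 : a * b * x = a' * b' * ζ := by rw [hζ]; group
  have na' : Nz Q Z a' := by
    rw [ha']
    have nu : Nz Q Z u := ⟨fun x hx => mul_mem (mul_mem huQ hx) (inv_mem huQ),
      fun x hx => mul_mem (mul_mem (inv_mem huQ) hx) huQ, fun x hx => by rw [h.cent x hx u huQ]; exact hx,
      fun x hx => by
        have := h.cent x hx u⁻¹ (inv_mem huQ)
        rw [inv_inv] at this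
        rw [this]; exact hx⟩
    exact (nu.mul ha).mul nu.inv
  have nb' : Nz Q Z b' := by
    rw [hb']
    have nu : Nz Q Z q := ⟨fun x hx => mul_mem (mul_mem hq hx) (inv_mem hq),
      fun x hx => mul_mem (mul_mem (inv_mem hq) hx) hq, fun x hx => by rw [h.cent x hx q hq]; exact hx,
      fun x hx => by
        have := h.cent x hx q⁻¹ (inv_mem hq)
        rw [inv_inv] at this
        rw [this]; exact hx⟩
    exact (nu.mul hb).mul nu.inv
  obtain ⟨p₂, hp₂, q₂, hq₂, h2⟩ := hz _ (nb'.z _ hζZ)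
  rw [← comm_conj h huQ ha hp₂, ← comm_conj h hq hb hq₂, ← ha', ← hb'] at h2
  obtain ⟨u₂, hu₂⟩ : ∃ u₂, u₂ = a' * p₂ * a'⁻¹ := ⟨_, rfl⟩
  have e2 : (u₂ * a' * u₂⁻¹) * (q₂ * b' * q₂⁻¹) = a' * b' * ζ := by
    have e : (u₂ * a' * u₂⁻¹) * (q₂ * b' * q₂⁻¹) = a' * (⁅p₂, a'⁆ * ⁅q₂, b'⁆) * b' := by
      rw [hu₂]
      simp only [commutatorElement_def]
      group
    rw [e, ← h2]
    group
  refine ⟨u₂ * a' * u₂⁻¹, q₂ * b' * q₂⁻¹, by rw [e2, e1], ?_, ?_⟩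
  · rw [ha', show u₂ * (u * a * u⁻¹) * u₂⁻¹ = MulAut.conj u₂ (MulAut.conj u a) from rfl, MulEquiv.orderOf_eq,
      MulEquiv.orderOf_eq]
    exact oa
  · rw [hb', show q₂ * (q * b * q⁻¹) * q₂⁻¹ = MulAut.conj q₂ (MulAut.conj q b) from rfl, MulEquiv.orderOf_eq,
      MulEquiv.orderOf_eq]
    exact ob

include h ha hb in
/-- the same, `Z` covered on generators -/
theorem cover_Z {Y : Set G} (hY : Subgroup.closure Y = Z) (hg : ∀ x ∈ Y, ∃ p ∈ Z, ∃ q ∈ Z, x = ⁅p, a⁆ * ⁅q, b⁆) :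
    ∀ x ∈ Z, ∃ p ∈ Z, ∃ q ∈ Z, x = ⁅p, a⁆ * ⁅q, b⁆ := by
  have hab : ∀ x ∈ Z, ∀ y ∈ Z, x * y = y * x := by
    intro x hx y hy
    have := h.cent y hy x (h.le hx)
    calc x * y = (x * y * x⁻¹) * x := by group
      _ = y * x := by rw [this]
  have cm : ∀ {c : G}, Nz Q Z c → ∀ p ∈ Z, ⁅p, c⁆ ∈ Z := by
    intro c hc p hp
    have : ⁅p, c⁆ = p * (c * p⁻¹ * c⁻¹) := by rw [commutatorElement_def]; group
    rw [this]
    exact mul_mem hp (hc.z _ (inv_mem hp))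
  have mulc : ∀ {c : G}, Nz Q Z c → ∀ p ∈ Z, ∀ p' ∈ Z, ⁅p * p', c⁆ = ⁅p, c⁆ * ⁅p', c⁆ := by
    intro c hc p hp p' hp'
    have e : ⁅p * p', c⁆ = p * ⁅p', c⁆ * p⁻¹ * ⁅p, c⁆ := by simp only [commutatorElement_def]; group
    rw [e, h.cent _ (cm hc p' hp') p (h.le hp)]
    exact hab _ (cm hc p' hp') _ (cm hc p hp)
  have invc : ∀ {c : G}, Nz Q Z c → ∀ p ∈ Z, ⁅p⁻¹, c⁆ = ⁅p, c⁆⁻¹ := by
    intro c hc p hp
    have h1 := mulc hc p⁻¹ (inv_mem hp) p hp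
    rw [inv_mul_cancel, commutatorElement_one_left] at h1
    exact eq_inv_of_mul_eq_one_left h1.symm
  intro x hx
  rw [← hY] at hx
  induction hx using Subgroup.closure_induction with
  | mem x hx => exact hg x hx
  | one => exact ⟨1, one_mem _, 1, one_mem _, by rw [commutatorElement_one_left, commutatorElement_one_left, mul_one]⟩
  | mul x y _ _ ihx ihy =>
    obtain ⟨p, hp, q, hq, e1⟩ := ihx
    obtain ⟨p', hp', q', hq', e2⟩ := ihy
    refine ⟨p * p', mul_mem hp hp', q * q', mul_mem hq hq', ?_⟩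
    rw [e1, e2, mulc ha p hp p' hp', mulc hb q hq q' hq']
    have := hab _ (cm hb q hq) _ (cm ha p' hp')
    calc ⁅p, a⁆ * ⁅q, b⁆ * (⁅p', a⁆ * ⁅q', b⁆) = ⁅p, a⁆ * (⁅q, b⁆ * ⁅p', a⁆) * ⁅q', b⁆ := by group
      _ = _ := by rw [this]; group
  | inv x _ ihx =>
    obtain ⟨p, hp, q, hq, e1⟩ := ihx
    refine ⟨p⁻¹, inv_mem hp, q⁻¹, inv_mem hq, ?_⟩
    rw [e1, invc ha p hp, invc hb q hq, mul_inv_rev]
    exact hab _ (inv_mem (cm hb q hq)) _ (inv_mem (cm ha p hp))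

end

/-- **Three hyperplanes.** -/
theorem triple (h : QZ Q Z) {X : Set G} (hX : Subgroup.closure X = Q) {C : Fin 3 → Subgroup G} {y : Fin 3 → G}
    (hy : ∀ i, y i ∈ Q) (hyy : ∀ i, y i * y i = 1) (hZ : ∀ i, Z ≤ C i)
    (hr : ∀ r ∈ X, ∃ e : Fin 3 → Bool, ((e 0 ^^ e 1) ^^ e 2) = false ∧ ∀ i, r * (if e i then y i else 1) ∈ C i) :
    ∀ x ∈ Q, ∃ i, x ∈ C i := by
  obtain ⟨A, _, f, hf⟩ := h.exists_model
  have hyf : ∀ i, f ⟨y i, hy i⟩ * f ⟨y i, hy i⟩ = 1 := by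
    intro i
    rw [← map_mul]
    have : (⟨y i, hy i⟩ * ⟨y i, hy i⟩ : ↥Q) = 1 := Subtype.ext (hyy i)
    rw [this, map_one]
  -- transfer modulo `Z`
  have tr : ∀ (i : Fin 3) (s t : ↥Q), (s : G) ∈ C i → f s = f t → (t : G) ∈ C i := by
    intro i s t hs he
    have := (hf s t).2 he
    have e : (t : G) = s * ((s : G)⁻¹ * t) := by group
    rw [e]
    exact mul_mem hs (hZ i this)
  let Y : Fin 3 → Bool → ↥Q := fun i b => if b then ⟨y i, hy i⟩ else 1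
  have hY : ∀ i b, ((Y i b : ↥Q) : G) = if b then y i else 1 := by
    intro i b
    cases b <;> rfl
  have hYY : ∀ i b c, f (Y i b) * f (Y i c) = f (Y i (b ^^ c)) := by
    intro i b c
    cases b <;> cases c
    · simp [Y]
    · simp [Y]
    · simp [Y]
    · simpa [Y] using hyf i
  have hYi : ∀ i b, (f (Y i b))⁻¹ = f (Y i b) := by
    intro i b
    rw [inv_eq_iff_mul_eq_one, hYY, Bool.xor_self]
    simp [Y]
  have key : ∀ x ∈ Q, x ∈ Q ∧ ∃ e : Fin 3 → Bool, ((e 0 ^^ e 1) ^^ e 2) = false ∧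
      ∀ i, x * (if e i then y i else 1) ∈ C i := by
    intro x hx
    rw [← hX] at hx
    induction hx using Subgroup.closure_induction with
    | mem r hr' => exact ⟨by rw [← hX]; exact Subgroup.subset_closure hr', hr r hr'⟩
    | one => exact ⟨one_mem _, fun _ => false, rfl, fun i => by
        rw [if_neg (by simp), mul_one]; exact one_mem _⟩
    | mul s t _ _ ihs iht =>
      obtain ⟨hs, e, he, h1⟩ := ihs
      obtain ⟨ht, e', he', h2⟩ := iht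
      refine ⟨mul_mem hs ht, fun i => e i ^^ e' i, ?_, fun i => ?_⟩
      · have hx6 : ∀ a b c a' b' c' : Bool, ((a ^^ b) ^^ c) = false → ((a' ^^ b') ^^ c') = false →
            (((a ^^ a') ^^ (b ^^ b')) ^^ (c ^^ c')) = false := by decide
        exact hx6 _ _ _ _ _ _ he he'
      · have h3 : (((⟨s, hs⟩ * Y i (e i)) * (⟨t, ht⟩ * Y i (e' i)) : ↥Q) : G) ∈ C i := by
          simp only [Subgroup.coe_mul, hY]
          exact mul_mem (h1 i) (h2 i)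
        have h4 := tr i _ ((⟨s, hs⟩ * ⟨t, ht⟩) * Y i (e i ^^ e' i)) h3 (by
          rw [map_mul, map_mul, map_mul, map_mul, map_mul, mul_mul_mul_comm, hYY])
        simp only [Subgroup.coe_mul, hY] at h4
        exact h4
    | inv s _ ihs =>
      obtain ⟨hs, e, he, h1⟩ := ihs
      refine ⟨inv_mem hs, e, he, fun i => ?_⟩
      have h3 : ((((⟨s, hs⟩ * Y i (e i)) : ↥Q)⁻¹ : ↥Q) : G) ∈ C i := by
        simp only [Subgroup.coe_mul, Subgroup.coe_inv, hY]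
        exact inv_mem (h1 i)
      have h4 := tr i _ (⟨s, hs⟩⁻¹ * Y i (e i)) h3 (by
        rw [map_inv, map_mul, map_mul, map_inv, mul_inv, hYi])
      simp only [Subgroup.coe_mul, Subgroup.coe_inv, hY] at h4
      exact h4
  intro x hx
  obtain ⟨-, e, he, h1⟩ := key x hx
  have : ∃ i, e i = false := by
    by_contra hno
    push Not at hno
    have h0 := hno 0
    have h1' := hno 1
    have h2 := hno 2
    simp only [ne_eq, Bool.not_eq_false] at h0 h1' h2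
    rw [h0, h1', h2] at he
    simp at he
  obtain ⟨i, hi⟩ := this
  refine ⟨i, ?_⟩
  have := h1 i
  rwa [hi, if_neg (by simp), mul_one] at this

/-! ### ordered products -/

/-- every generator normalises the group generated by the later ones -/
inductive Fl (x : ℕ → G) : List ℕ → Prop
  | nil : Fl x []
  | cons {r : ℕ} {t : List ℕ} (ht : Fl x t)
      (h : ∀ s ∈ t, x r * x s * (x r)⁻¹ ∈ Subgroup.closure (x '' {s | s ∈ t})) : Fl x (r :: t)

theorem Fl.exists_prod {x : ℕ → G} (hx' : ∀ r, (x r)⁻¹ = x r) {l : List ℕ} (h : Fl x l) :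
    ∀ g ∈ Subgroup.closure (x '' {s | s ∈ l}), ∃ w : List ℕ, w.Sublist l ∧ g = (w.map x).prod := by
  have hx : ∀ r, x r * x r = 1 := by
    intro r
    have := mul_inv_cancel (x r)
    rwa [hx' r] at this
  induction h with
  | nil =>
    intro g hg
    refine ⟨[], List.Sublist.slnil, ?_⟩
    have : (x '' {s | s ∈ ([] : List ℕ)}) = ∅ := by
      ext; simp
    rw [this, Subgroup.closure_empty, Subgroup.mem_bot] at hg
    rw [hg, List.map_nil, List.prod_nil]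
  | @cons r t ht h1 ih =>
    have hi : (x r)⁻¹ = x r := inv_eq_of_mul_eq_one_right (hx r)
    have hn : ∀ k ∈ Subgroup.closure (x '' {s | s ∈ t}), x r * k * (x r)⁻¹ ∈ Subgroup.closure (x '' {s | s ∈ t}) := by
      intro k hk
      have : Subgroup.closure (x '' {s | s ∈ t}) ≤
          (Subgroup.closure (x '' {s | s ∈ t})).comap (MulAut.conj (x r)).toMonoidHom := by
        rw [Subgroup.closure_le]
        rintro _ ⟨s, hs, rfl⟩
        exact h1 s hs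
      exact this hk
    have key : ∀ g ∈ Subgroup.closure (x '' {s | s ∈ r :: t}), ∃ b : Bool,
        ∃ k ∈ Subgroup.closure (x '' {s | s ∈ t}), g = (if b then x r else 1) * k := by
      intro g hg
      induction hg using Subgroup.closure_induction with
      | mem g hg =>
        obtain ⟨s, hs, rfl⟩ := hg
        rcases List.mem_cons.1 hs with rfl | hs
        · exact ⟨true, 1, one_mem _, by simp⟩
        · exact ⟨false, x s, Subgroup.subset_closure ⟨s, hs, rfl⟩, by simp⟩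
      | one => exact ⟨false, 1, one_mem _, by simp⟩
      | mul g g' _ _ ihg ihg' =>
        obtain ⟨b, k, hk, rfl⟩ := ihg
        obtain ⟨b', k', hk', rfl⟩ := ihg'
        cases b'
        · refine ⟨b, k * k', mul_mem hk hk', ?_⟩
          simp [mul_assoc]
        · refine ⟨!b, x r * k * (x r)⁻¹ * k', mul_mem (hn k hk) hk', ?_⟩
          cases b
          · simp only [Bool.not_false, if_true, Bool.false_eq_true, if_false]
            rw [hi]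
            calc 1 * k * (x r * k') = (x r * x r) * k * (x r * k') := by rw [hx]
              _ = _ := by group
          · simp only [Bool.not_true, if_true, Bool.false_eq_true, if_false]
            rw [hi]
            group
      | inv g _ ihg =>
        obtain ⟨b, k, hk, rfl⟩ := ihg
        cases b
        · exact ⟨false, k⁻¹, inv_mem hk, by simp⟩
        · refine ⟨true, x r * k⁻¹ * (x r)⁻¹, hn _ (inv_mem hk), ?_⟩
          simp only [if_true]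
          rw [mul_inv_rev, hi]
          calc k⁻¹ * x r = (x r * x r) * k⁻¹ * x r := by rw [hx, one_mul]
            _ = _ := by group
    intro g hg
    obtain ⟨b, k, hk, rfl⟩ := key g hg
    obtain ⟨w, hw, rfl⟩ := ih k hk
    cases b
    · exact ⟨w, hw.cons _, by simp⟩
    · exact ⟨r :: w, hw.cons_cons _, by simp⟩

end Cfsg.Agent.H335.FT
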