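import Cfsg.Agent.H335.FT.Data
import Cfsg.Agent.H335.FT.Lib
import Cfsg.Agent.ChevalleyStructure.Elts

/-!
# S2465, `F₄(2)`: words in the root elements and their packed matrices (helper335)
-/

set_option autoImplicit false

namespace Cfsg.Agent.H335.FT

open scoped commutatorElement
open Cfsg.Agent.ChevalleyStructure.Tits.Pack Cfsg.Agent.ChevalleyStructure.Tits.Table Cfsg.Lie
  Cfsg.Agent.ChevalleyStructure Cfsg.Agent.ChevalleyStructure.Elts

/-- the group `F₄(2)` -/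
abbrev GF : Type := ↥(chevF4.group (ZMod 2))

/-- coordinates -/
abbrev I52 : Type := Fin 4 ⊕ Fin 48

theorem hD : InList chevF4 := by simp [InList]

theorem x_eq_of_chk (r : ℕ) (hr : r < 48) (h : chkX r = true) : chevF4.x (ZMod 2) r 1 = toMat (XP r) := by
  have h1 : chevF4.x (ZMod 2) r 1 = chevF4.xMat (ZMod 2) (⟨r, hr⟩ : Fin 48) 1 := by
    unfold ChevalleyDatum.x
    exact dif_pos hr
  rw [h1]
  apply Matrix.ext
  intro row col
  refine (xMat_one ⟨r, hr⟩ row col).trans ?_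
  refine Eq.trans ?_ (toMat_apply (XP r) row col).symm
  rw [cast_eq_bz]
  unfold chkX at h
  rw [List.all_eq_true] at h
  have h2 := h (ix col) (List.mem_range.mpr (ix_lt col))
  rw [List.all_eq_true] at h2
  have h3 := h2 (ix row) (List.mem_range.mpr (ix_lt row))
  rw [beq_iff_eq] at h3
  rw [h3]

/-- the root element `x_r(1)` (for the letters in use) -/
noncomputable def gx (r : ℕ) : GF := if r ∈ used then ⟨xG hD r 1, xG_mem_group hD r 1⟩ else 1

/-- the matrix -/
noncomputable def MM : GF →* Matrix I52 I52 (ZMod 2) :=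
  (Units.coeHom (Matrix I52 I52 (ZMod 2))).comp (chevF4.group (ZMod 2)).subtype

theorem MM_injective : Function.Injective MM := by
  intro a b h
  apply Subtype.ext
  exact Units.ext h

theorem used_lt {r : ℕ} (hr : r ∈ used) : r < 48 := by
  revert r
  decide

theorem MM_gx (r : ℕ) : MM (gx r) = toMat (XP r) := by
  unfold gx
  split_ifs with h
  · have h1 := chkX_used
    rw [List.all_eq_true] at h1
    exact x_eq_of_chk r (used_lt h) (h1 r h)
  · rw [map_one]
    by_cases hr : r < 48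
    · have h1 := XP_unused
      rw [List.all_eq_true] at h1
      have h2 := h1 r (List.mem_range.2 hr)
      rw [Bool.or_eq_true] at h2
      rcases h2 with h2 | h2
      · rw [List.contains_iff_mem] at h2
        exact absurd h2 h
      · rw [Nat.eq_of_beq_eq_true h2, toMat_oneP]
    · have : XP r = oneP := by
        unfold XP
        rw [List.getD_eq_default]
        have : XL.length = 48 := by decide +kernel
        omega
      rw [this, toMat_oneP]

theorem gx_mul_self (r : ℕ) : gx r * gx r = 1 := by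
  unfold gx
  split_ifs with h
  · apply Subtype.ext
    change xG hD r 1 * xG hD r 1 = 1
    rw [xG_add]
    have : (1 + 1 : ZMod 2) = 0 := by decide
    rw [this, xG_zero]
  · rw [mul_one]

theorem gx_inv (r : ℕ) : (gx r)⁻¹ = gx r := inv_eq_of_mul_eq_one_right (gx_mul_self r)

/-- a word -/
noncomputable def wd (w : List ℕ) : GF := (w.map gx).prod

theorem wd_nil : wd [] = 1 := rfl

theorem wd_cons (r : ℕ) (w : List ℕ) : wd (r :: w) = gx r * wd w := by
  unfold wd; rw [List.map_cons, List.prod_cons]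

theorem wd_append (w w' : List ℕ) : wd (w ++ w') = wd w * wd w' := by
  unfold wd; rw [List.map_append, List.prod_append]

theorem wd_reverse (w : List ℕ) : wd w.reverse = (wd w)⁻¹ := by
  induction w with
  | nil => rw [List.reverse_nil, wd_nil, inv_one]
  | cons r w ih => rw [List.reverse_cons, wd_append, ih, wd_cons, wd_cons, wd_nil, mul_one, mul_inv_rev, gx_inv]

/-- evaluation on a packed matrix -/
def evOn (w : List ℕ) (v : ℕ) : ℕ := w.foldr (fun r acc => mulP (XP r) acc) v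

/-- `A` is the packed matrix of `g` -/
def Rp (A : ℕ) (g : GF) : Prop := toMat A = MM g

theorem Rp.inj {A : ℕ} {g g' : GF} (h : Rp A g) (h' : Rp A g') : g = g' := MM_injective (h.symm.trans h')

theorem Rp.one : Rp oneP 1 := by
  unfold Rp
  rw [toMat_oneP, map_one]

theorem Rp.mul {A B : ℕ} {a b : GF} (ha : Rp A a) (hb : Rp B b) : Rp (mulP A B) (a * b) := by
  unfold Rp at *
  rw [toMat_mulP, ha, hb, map_mul]

theorem Rp.gx (r : ℕ) : Rp (XP r) (gx r) := (MM_gx r).symm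

theorem Rp.evOn {v : ℕ} {g : GF} (h : Rp v g) (w : List ℕ) : Rp (evOn w v) (wd w * g) := by
  induction w with
  | nil => rw [wd_nil, one_mul]; exact h
  | cons r w ih =>
    rw [wd_cons, mul_assoc]
    exact (Rp.gx r).mul ih

theorem Rp.word (w : List ℕ) : Rp (FT.evOn w oneP) (wd w) := by
  have := Rp.one.evOn w
  rwa [mul_one] at this

/-- equality of words -/
def eqW (w w' : List ℕ) : Bool := Nat.beq (evOn w oneP) (evOn w' oneP)

theorem wd_eq {w w' : List ℕ} (h : eqW w w' = true) : wd w = wd w' := by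
  have h1 := Rp.word w
  rw [Nat.eq_of_beq_eq_true h] at h1
  exact h1.inj (Rp.word w')

/-- membership -/
def me (r : ℕ) (l : List ℕ) : Bool := l.any fun s => Nat.beq s r

theorem mem_of_me {r : ℕ} {l : List ℕ} (h : me r l = true) : r ∈ l := by
  unfold me at h
  rw [List.any_eq_true] at h
  obtain ⟨s, hs, e⟩ := h
  rw [← Nat.eq_of_beq_eq_true e]; exact hs

theorem me_of_mem {r : ℕ} {l : List ℕ} (h : r ∈ l) : me r l = true := by
  unfold me
  rw [List.any_eq_true]
  exact ⟨r, h, Nat.beq_refl r⟩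

theorem me_iff {r : ℕ} {l : List ℕ} : me r l = true ↔ r ∈ l := ⟨mem_of_me, me_of_mem⟩

/-- inclusion -/
def su (w l : List ℕ) : Bool := w.all fun r => me r l

theorem sub_of_su {w l : List ℕ} (h : su w l = true) : ∀ r ∈ w, r ∈ l := by
  intro r hr
  unfold su at h
  rw [List.all_eq_true] at h
  exact mem_of_me (h r hr)

/-- the group generated by the letters of a list -/
noncomputable def Cl (l : List ℕ) : Subgroup GF := Subgroup.closure (gx '' {r | r ∈ l})

theorem gx_mem_Cl {l : List ℕ} {r : ℕ} (h : r ∈ l) : gx r ∈ Cl l := Subgroup.subset_closure ⟨r, h, rfl⟩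

theorem wd_mem_Cl {l w : List ℕ} (h : ∀ r ∈ w, r ∈ l) : wd w ∈ Cl l := by
  induction w with
  | nil => rw [wd_nil]; exact one_mem _
  | cons r w ih =>
    rw [wd_cons]
    exact mul_mem (gx_mem_Cl (h r List.mem_cons_self)) (ih fun s hs => h s (List.mem_cons_of_mem _ hs))

theorem Cl_mono {l l' : List ℕ} (h : ∀ r ∈ l, r ∈ l') : Cl l ≤ Cl l' :=
  Subgroup.closure_mono (Set.image_mono fun _ hr => h _ hr)

/-! ### the parabolic subgroup -/

/-- the letters normalise -/
def chkN (Nl Ql Zl : List ℕ) (E : List (ℕ × ℕ × List ℕ)) : Bool :=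
  Nl.all fun a => Ql.all fun r => E.any fun e => Nat.beq e.1 a && (Nat.beq e.2.1 r &&
    (su e.2.2 Ql && ((!(me r Zl) || su e.2.2 Zl) && eqW [a, r, a] e.2.2)))

/-- `Z` is central in `Q` -/
def chkC (Ql Zl : List ℕ) : Bool := Zl.all fun z => Ql.all fun r => eqW [z, r] [r, z]

/-- commutators in `Q` -/
def chkQ (Ql Zl : List ℕ) (t : ℕ) : Bool :=
  me t Zl && Ql.all fun r => Ql.all fun s => eqW [r, s] [s, r] || eqW [r, s] [t, s, r]

theorem qz {Ql Zl : List ℕ} (hsub : su Zl Ql = true) (h1 : chkC Ql Zl = true) {t : ℕ} (h2 : chkQ Ql Zl t = true) :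
    QZ (Cl Ql) (Cl Zl) := by
  refine QZ.of_gen rfl rfl (Cl_mono (sub_of_su hsub)) ?_ ?_
  · rintro _ ⟨z, hz, rfl⟩ _ ⟨r, hr, rfl⟩
    unfold chkC at h1
    rw [List.all_eq_true] at h1
    have h3 := h1 z hz
    rw [List.all_eq_true] at h3
    have h4 := wd_eq (h3 r hr)
    simpa only [wd_cons, wd_nil, mul_one] using h4
  · rintro _ ⟨r, hr, rfl⟩ _ ⟨s, hs, rfl⟩
    unfold chkQ at h2
    rw [Bool.and_eq_true, List.all_eq_true] at h2
    have h3 := h2.2 r hr
    rw [List.all_eq_true] at h3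
    have h4 := h3 s hs
    rw [Bool.or_eq_true] at h4
    rcases h4 with h4 | h4
    · have h5 := wd_eq h4
      simp only [wd_cons, wd_nil, mul_one] at h5
      exact ⟨1, one_mem _, by rw [one_mul]; exact h5⟩
    · have h5 := wd_eq h4
      simp only [wd_cons, wd_nil, mul_one] at h5
      exact ⟨gx t, gx_mem_Cl (mem_of_me h2.1), h5⟩

theorem nz {Nl Ql Zl : List ℕ} {E : List (ℕ × ℕ × List ℕ)} (h : chkN Nl Ql Zl E = true) (hsub : su Zl Ql = true)
    {a : ℕ} (ha : a ∈ Nl) : Nz (Cl Ql) (Cl Zl) (gx a) := by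
  unfold chkN at h
  rw [List.all_eq_true] at h
  have h1 := h a ha
  rw [List.all_eq_true] at h1
  have key : ∀ r ∈ Ql, ∃ w : List ℕ, (∀ s ∈ w, s ∈ Ql) ∧ (r ∈ Zl → ∀ s ∈ w, s ∈ Zl) ∧
      gx a * gx r * (gx a)⁻¹ = wd w := by
    intro r hr
    have h2 := h1 r hr
    rw [List.any_eq_true] at h2
    obtain ⟨e, -, h3⟩ := h2
    simp only [Bool.and_eq_true, Bool.or_eq_true] at h3
    obtain ⟨-, -, h4, h5, h6⟩ := h3
    refine ⟨e.2.2, sub_of_su h4, fun hz => ?_, ?_⟩
    · rcases h5 with h5 | h5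
      · rw [me_of_mem hz] at h5
        exact absurd h5 (by simp)
      · exact sub_of_su h5
    · have h7 := wd_eq h6
      simp only [wd_cons, wd_nil, mul_one] at h7
      rw [gx_inv, mul_assoc]
      exact h7
  refine Nz.of_gen (gx_mul_self a) rfl rfl ?_ ?_
  · rintro _ ⟨r, hr, rfl⟩
    obtain ⟨w, hw, -, e⟩ := key r hr
    rw [e]
    exact wd_mem_Cl hw
  · rintro _ ⟨r, hr, rfl⟩
    obtain ⟨w, -, hw, e⟩ := key r (sub_of_su hsub r hr)
    rw [e]
    exact wd_mem_Cl (hw hr)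

theorem nz_wd {Nl Ql Zl : List ℕ} (h : ∀ a ∈ Nl, Nz (Cl Ql) (Cl Zl) (gx a)) {w : List ℕ} (hw : ∀ r ∈ w, r ∈ Nl) :
    Nz (Cl Ql) (Cl Zl) (wd w) := by
  refine Nz.prod fun a ha => ?_
  rw [List.mem_map] at ha
  obtain ⟨r, hr, rfl⟩ := ha
  exact h r (hw r hr)

/-- the flag of a list -/
def chkFl (E : List (ℕ × ℕ × List ℕ)) : List ℕ → Bool
  | [] => true
  | r :: t => (t.all fun s => E.any fun e => Nat.beq e.1 r && (Nat.beq e.2.1 s && (su e.2.2 t && eqW [r, s, r] e.2.2)))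
      && chkFl E t

theorem fl_of_chk {E : List (ℕ × ℕ × List ℕ)} {l : List ℕ} (h : chkFl E l = true) : Fl gx l := by
  induction l with
  | nil => exact Fl.nil
  | cons r t ih =>
    unfold chkFl at h
    rw [Bool.and_eq_true, List.all_eq_true] at h
    refine Fl.cons (ih h.2) fun s hs => ?_
    have h2 := h.1 s hs
    rw [List.any_eq_true] at h2
    obtain ⟨e, -, h3⟩ := h2
    simp only [Bool.and_eq_true] at h3
    obtain ⟨-, -, h4, h6⟩ := h3
    have h7 := wd_eq h6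
    simp only [wd_cons, wd_nil, mul_one] at h7
    rw [gx_inv, mul_assoc, h7]
    exact wd_mem_Cl (sub_of_su h4)

/-! ### pairs -/

/-- the data of a pair -/
structure PD where
  /-- the word of the first factor -/
  c : List ℕ
  /-- the roots outside the hyperplane -/
  f : List ℕ
  /-- the reference root -/
  i0 : ℕ
  k1 : ℕ
  k2 : ℕ
  A : ℕ
  Ai : ℕ
  B : ℕ
  Bi : ℕ
  zc : List (ℕ × List ℕ × List ℕ)
  vc : List (ℕ × List ℕ × List ℕ × List ℕ)

/-- the identity `wd l = ⁅wd p, a⁆ * ⁅wd q, b⁆` -/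
def chkI (D : PD) (l p q : List ℕ) : Bool :=
  Nat.beq (evOn l oneP) (evOn p (mulP D.A (evOn p.reverse (mulP D.Ai (evOn q (mulP D.B (evOn q.reverse D.Bi)))))))

/-- `A ^ k = 1` -/
def powP (A : ℕ) (k : ℕ) : ℕ := Nat.rec (motive := fun _ => ℕ) oneP (fun _ acc => mulP A acc) k

theorem Rp.powP {A : ℕ} {a : GF} (h : Rp A a) (k : ℕ) : Rp (FT.powP A k) (a ^ k) := by
  induction k with
  | zero => rw [pow_zero]; exact Rp.one
  | succ k ih =>
    rw [pow_succ']
    exact h.mul ih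

def PD.chkA (u : List ℕ) (D : PD) : Bool :=
  Nat.beq (evOn D.c oneP) D.A && (Nat.beq (evOn D.c.reverse oneP) D.Ai && (Nat.beq (evOn (D.c.reverse ++ u) oneP) D.B &&
    (Nat.beq (evOn (u.reverse ++ D.c) oneP) D.Bi && (Nat.beq (powP D.A D.k1) oneP && (Nat.beq (powP D.B D.k2) oneP &&
      ((Nat.beq D.k1 5 || Nat.beq D.k1 7) && (Nat.beq D.k2 5 || Nat.beq D.k2 7)))))))

def PD.chkZ (Zl : List ℕ) (D : PD) : Bool :=
  Zl.all fun r => D.zc.any fun e => Nat.beq e.1 r && (su e.2.1 Zl && (su e.2.2 Zl && chkI D [r] e.2.1 e.2.2))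

def PD.chkV (Zl Ql : List ℕ) (D : PD) : Bool :=
  me D.i0 Ql && Ql.all fun r => me r Zl || D.vc.any fun e => Nat.beq e.1 r && (su e.2.1 Zl && (su e.2.2.1 Ql &&
    (su e.2.2.2 Ql && chkI D (r :: ((bif me r D.f then [D.i0] else []) ++ e.2.1)) e.2.2.1 e.2.2.2)))

section

variable {Nl Ql Zl : List ℕ} (h : QZ (Cl Ql) (Cl Zl)) (hN : ∀ a ∈ Nl, Nz (Cl Ql) (Cl Zl) (gx a)) {u : List ℕ} {D : PD}

theorem cop {k : ℕ} (hk : (Nat.beq k 5 || Nat.beq k 7) = true) {g : GF} (hg : g ^ k = 1) : (orderOf g).Coprime 6 := by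
  have h1 := orderOf_dvd_of_pow_eq_one hg
  rw [Bool.or_eq_true] at hk
  rcases hk with hk | hk
  · rw [Nat.eq_of_beq_eq_true hk] at h1
    exact Nat.Coprime.of_dvd_left h1 (by norm_num)
  · rw [Nat.eq_of_beq_eq_true hk] at h1
    exact Nat.Coprime.of_dvd_left h1 (by norm_num)

/-- the first factor -/
noncomputable def PD.a (D : PD) : GF := wd D.c

/-- the second factor -/
noncomputable def PD.b (D : PD) (u : List ℕ) : GF := wd (D.c.reverse ++ u)

theorem PD.ab (D : PD) (u : List ℕ) : D.a * D.b u = wd u := by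
  unfold PD.a PD.b
  rw [wd_append, wd_reverse, mul_inv_cancel_left]

theorem PD.reps (hA : D.chkA u = true) : Rp D.A D.a ∧ Rp D.Ai D.a⁻¹ ∧ Rp D.B (D.b u) ∧ Rp D.Bi (D.b u)⁻¹ ∧
    (orderOf D.a).Coprime 6 ∧ (orderOf (D.b u)).Coprime 6 := by
  unfold PD.chkA at hA
  simp only [Bool.and_eq_true] at hA
  obtain ⟨h1, h2, h3, h4, h5, h6, h7, h8⟩ := hA
  have r1 : Rp D.A D.a := by
    rw [← Nat.eq_of_beq_eq_true h1]; exact Rp.word _
  have r2 : Rp D.Ai D.a⁻¹ := by
    rw [← Nat.eq_of_beq_eq_true h2, PD.a, ← wd_reverse]; exact Rp.word _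
  have r3 : Rp D.B (D.b u) := by
    rw [← Nat.eq_of_beq_eq_true h3]; exact Rp.word _
  have r4 : Rp D.Bi (D.b u)⁻¹ := by
    rw [← Nat.eq_of_beq_eq_true h4, PD.b, ← wd_reverse, List.reverse_append, List.reverse_reverse]
    exact Rp.word _
  refine ⟨r1, r2, r3, r4, cop h7 ?_, cop h8 ?_⟩
  · have := r1.powP D.k1
    rw [Nat.eq_of_beq_eq_true h5] at this
    exact this.inj Rp.one
  · have := r3.powP D.k2
    rw [Nat.eq_of_beq_eq_true h6] at this
    exact this.inj Rp.one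

theorem PD.id (hA : D.chkA u = true) {l p q : List ℕ} (hI : chkI D l p q = true) :
    wd l = ⁅wd p, D.a⁆ * ⁅wd q, D.b u⁆ := by
  obtain ⟨r1, r2, r3, r4, -, -⟩ := PD.reps hA
  have h1 := Rp.word l
  rw [Nat.eq_of_beq_eq_true hI] at h1
  have h2 := (r1.mul ((r2.mul ((r3.mul (r4.evOn q.reverse)).evOn q)).evOn p.reverse)).evOn p
  rw [h1.inj h2, wd_reverse, wd_reverse, commutatorElement_def, commutatorElement_def]
  group

include h in
/-- **The soundness of a pair.** -/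
theorem PD.sound (ha : Nz (Cl Ql) (Cl Zl) D.a) (hb : Nz (Cl Ql) (Cl Zl) (D.b u)) (hA : D.chkA u = true)
    (hZ : D.chkZ Zl = true) {x : GF} (hx : x ∈ cov h ha hb) : Cfsg.Agent.H78.Pw.Pr 6 (wd u * x) := by
  obtain ⟨-, -, -, -, oa, ob⟩ := PD.reps hA
  rw [← D.ab u]
  refine pr_of_mem h ha hb (cover_Z h ha hb rfl ?_) oa ob hx
  rintro _ ⟨r, hr, rfl⟩
  unfold PD.chkZ at hZ
  rw [List.all_eq_true] at hZ
  have h1 := hZ r hr
  rw [List.any_eq_true] at h1
  obtain ⟨e, -, h3⟩ := h1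
  simp only [Bool.and_eq_true] at h3
  obtain ⟨-, h4, h5, h6⟩ := h3
  refine ⟨wd e.2.1, wd_mem_Cl (sub_of_su h4), wd e.2.2, wd_mem_Cl (sub_of_su h5), ?_⟩
  have := PD.id hA h6
  rwa [wd_cons, wd_nil, mul_one] at this

theorem PD.vcov (ha : Nz (Cl Ql) (Cl Zl) D.a) (hb : Nz (Cl Ql) (Cl Zl) (D.b u)) (hA : D.chkA u = true)
    (hV : D.chkV Zl Ql = true) {r : ℕ} (hr : r ∈ Ql) (hz : r ∉ Zl) :
    gx r * (if me r D.f then gx D.i0 else 1) ∈ cov h ha hb := by
  unfold PD.chkV at hV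
  rw [Bool.and_eq_true, List.all_eq_true] at hV
  have h1 := hV.2 r hr
  rw [Bool.or_eq_true] at h1
  rcases h1 with h1 | h1
  · exact absurd (mem_of_me h1) hz
  rw [List.any_eq_true] at h1
  obtain ⟨e, -, h3⟩ := h1
  simp only [Bool.and_eq_true] at h3
  obtain ⟨-, h4, h5, h6, h7⟩ := h3
  have h8 := PD.id hA h7
  have hi : gx D.i0 ∈ Cl Ql := gx_mem_Cl (mem_of_me hV.1)
  rw [wd_cons, wd_append, ← mul_assoc] at h8
  have e1 : (if me r D.f then gx D.i0 else 1) = wd (bif me r D.f then [D.i0] else []) := by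
    cases me r D.f
    · simp [wd_nil]
    · simp [wd_cons, wd_nil]
  rw [e1]
  refine mem_cov_of h ha hb (mul_mem (gx_mem_Cl hr) ?_) (wd_mem_Cl (sub_of_su h5)) (wd_mem_Cl (sub_of_su h6))
    (wd_mem_Cl (sub_of_su h4)) h8
  rw [← e1]
  split_ifs
  · exact hi
  · exact one_mem _

end

end Cfsg.Agent.H335.FT
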