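import Cfsg.Agent.H335.FT.CertA
import Cfsg.Agent.H335.FT.CertB
import Cfsg.Agent.H537.Pw.WCFour
import Cfsg.Agent.H64.ChevField
import Cfsg.Agent.S1054

/-!
# S2465, `F₄(2)`: the elements of `2`-power order (helper335)

* `two_F4` : over a field with two elements, every `g` with `g ^ 2 ^ k = 1` is a product of two elements of order
  prime to 6.
-/

set_option autoImplicit false

namespace Cfsg.Agent.H335.FT

open CoxeterSystem Cfsg.Agent.ChevalleyStructure.CoxeterGeom Cfsg.Agent.Tits.Roots Cfsg.Agent.Tits.Core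
  Cfsg.Agent.Nodes.Reps Cfsg.Agent.Nodes.BNOf Cfsg.Agent.Nodes.StabComb Cfsg.Agent.Nodes.RGDLib
  Cfsg.Agent.Nodes.Bruhat Cfsg.Agent.Nodes.OppDec Cfsg.Agent.Nodes.LeviDec
open Cfsg.Lie Cfsg.Agent.ChevalleyStructure Cfsg.Agent.ChevalleyStructure.Elts
  Cfsg.Agent.ChevalleyStructure.CoxeterGeomTypes
  Cfsg.Agent.Nodes.RGDChev Cfsg.Agent.KFacts.RgdChevCoord Cfsg.Agent.H537.Pw Cfsg.Agent.H78.Pw

/-- the Coxeter system -/
abbrev csF : CoxeterSystem CoxeterMatrix.F₄ CoxeterMatrix.F₄.Group := CoxeterMatrix.F₄.toCoxeterSystem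

theorem XX_le {r : ℕ} (hr : r ∈ used) {l : List ℕ} (hl : r ∈ l) : XX chevF4 4 (ZMod 2) (vec chevF4 4 r) ≤ Cl l := by
  intro g hg
  rw [Subgroup.mem_subgroupOf, XV_vec isType_F4 (ZMod 2) (used_lt hr), mem_rootSubgroup_iff hD] at hg
  obtain ⟨t, ht⟩ := hg
  have h2 : ∀ t : ZMod 2, t = 0 ∨ t = 1 := by decide
  rcases h2 t with rfl | rfl
  · rw [xG_zero] at ht
    have : g = 1 := Subtype.ext ht
    rw [this]; exact one_mem _
  · have : g = gx r := by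
      unfold gx
      rw [if_pos hr]
      exact Subtype.ext ht
    rw [this]
    exact gx_mem_Cl hl

theorem Sup_le_Cl {S : Set (Fin 4 → ℤ)} {l : List ℕ} (hl : ∀ r ∈ l, r ∈ used)
    (hS : ∀ x ∈ S, IsRoot csF isType_F4.isCartan x) (h : ∀ r < 48, vec chevF4 4 r ∈ S → r ∈ l) :
    RGD.Sup (XX chevF4 4 (ZMod 2)) S ≤ Cl l := by
  refine RGD.Sup_le fun x hx => ?_
  obtain ⟨r, hr, rfl⟩ := (isRoot_iff isType_F4 csF x).1 (hS x hx)
  have h1 := h r hr hx
  exact XX_le (hl r h1) h1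

theorem VJ_le_A : VJ csF isType_F4.isCartan (XX chevF4 4 (ZMod 2)) {i : Fin 4 | i ≠ 3} ≤ Cl CertA.Ql := by
  refine Sup_le_Cl (by decide) (fun x hx => hx.1) ?_
  rintro r hr ⟨-, h0, k, hk, hk0⟩
  have hk' : k = 3 := by
    by_contra h
    exact hk h
  subst hk'
  have key : ∀ r : Fin 48, (∀ i : Fin 4, 0 ≤ vec chevF4 4 r i) → 0 < vec chevF4 4 r 3 → (r : ℕ) ∈ CertA.Ql := by
    decide +kernel
  exact key ⟨r, hr⟩ (fun i => h0 i) hk0

theorem UJ_le_A : UJ csF isType_F4.isCartan (XX chevF4 4 (ZMod 2)) {i : Fin 4 | i ≠ 3} ≤ Cl CertA.Pl := by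
  refine Sup_le_Cl (by decide) (fun x hx => hx.1) ?_
  rintro r hr ⟨-, h0, hk⟩
  have h3 : vec chevF4 4 r 3 = 0 := hk 3 (by simp)
  have key : ∀ r : Fin 48, (∀ i : Fin 4, 0 ≤ vec chevF4 4 r i) → vec chevF4 4 r 3 = 0 → (r : ℕ) ∈ CertA.Pl := by
    decide +kernel
  exact key ⟨r, hr⟩ (fun i => h0 i) h3

theorem VJ_le_B : VJ csF isType_F4.isCartan (XX chevF4 4 (ZMod 2)) {i : Fin 4 | i ≠ 0} ≤ Cl CertB.Ql := by
  refine Sup_le_Cl (by decide) (fun x hx => hx.1) ?_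
  rintro r hr ⟨-, h0, k, hk, hk0⟩
  have hk' : k = 0 := by
    by_contra h
    exact hk h
  subst hk'
  have key : ∀ r : Fin 48, (∀ i : Fin 4, 0 ≤ vec chevF4 4 r i) → 0 < vec chevF4 4 r 0 → (r : ℕ) ∈ CertB.Ql := by
    decide +kernel
  exact key ⟨r, hr⟩ (fun i => h0 i) hk0

theorem UJ_le_B : UJ csF isType_F4.isCartan (XX chevF4 4 (ZMod 2)) {i : Fin 4 | i ≠ 0} ≤ Cl CertB.Pl := by
  refine Sup_le_Cl (by decide) (fun x hx => hx.1) ?_
  rintro r hr ⟨-, h0, hk⟩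
  have h3 : vec chevF4 4 r 0 = 0 := hk 0 (by simp)
  have key : ∀ r : Fin 48, (∀ i : Fin 4, 0 ≤ vec chevF4 4 r i) → vec chevF4 4 r 0 = 0 → (r : ℕ) ∈ CertB.Pl := by
    decide +kernel
  exact key ⟨r, hr⟩ (fun i => h0 i) h3

theorem simpleF {F : Type*} [Field F] : IsSimpleGroup ↥(chevF4.group F) :=
  (Cfsg.Agent.S1054.result (F := F) chevF4 (by simp)).1

/-- **The elements of `2`-power order of `F₄(2)`.** -/
theorem two_GF {g : GF} {k : ℕ} (hg : g ^ 2 ^ k = 1) : Pr 6 g := by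
  by_cases hg1 : g = 1
  · rw [hg1]; exact Pr.one 6
  have : Fact (Nat.Prime 2) := ⟨Nat.prime_two⟩
  obtain ⟨x, hU, h⟩ := exists_conj_notMem_F4 (K := ZMod 2) (r := 2) simpleF (J := {i : Fin 4 | i ≠ 3})
    (J1 := {i : Fin 4 | i ≠ 0}) (by decide) hg1 hg
  refine Pr.of_conj (x := x) ?_
  have R := Cfsg.Agent.Nodes.RGDChev.rgd (K := ZMod 2) isType_F4 csF 2
  rcases h with h | h
  · obtain ⟨u, hu, v, hv, e⟩ := (mem_U_iff R (J := {i : Fin 4 | i ≠ 3})).1 hU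
    have hu1 : u ≠ 1 := by
      rintro rfl
      rw [one_mul] at e
      exact h (by rw [e]; exact hv)
    rw [e]
    exact CertA.main u (UJ_le_A hu) hu1 v (VJ_le_A hv)
  · obtain ⟨u, hu, v, hv, e⟩ := (mem_U_iff R (J := {i : Fin 4 | i ≠ 0})).1 hU
    have hu1 : u ≠ 1 := by
      rintro rfl
      rw [one_mul] at e
      exact h (by rw [e]; exact hv)
    rw [e]
    exact CertB.main u (UJ_le_B hu) hu1 v (VJ_le_B hv)

/-- **The elements of `2`-power order of `F₄(2)`**, over any field with two elements. -/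
theorem two_F4 {K : Type*} [Field K] (hK : Nat.card K = 2) {g : ↥(chevF4.group K)} {k : ℕ} (hg : g ^ 2 ^ k = 1) :
    Pr 6 g := by
  have : Finite K := Nat.finite_of_card_ne_zero (by rw [hK]; norm_num)
  let _ : Fintype K := Fintype.ofFinite K
  have hc : Fintype.card (ZMod 2) = Fintype.card K := by
    rw [ZMod.card, ← Nat.card_eq_fintype_card, hK]
  let e := Cfsg.Agent.H64.ChevField.groupCongr (FiniteField.ringEquivOfCardEq hc) chevF4
  have h1 : (e.symm g) ^ 2 ^ k = 1 := by rw [← map_pow, hg, map_one]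
  have h2 := (two_GF h1).map e.toMonoidHom
  have h3 : e.toMonoidHom (e.symm g) = g := e.apply_symm_apply g
  rwa [h3] at h2

end Cfsg.Agent.H335.FT
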