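import Cfsg.Agent.H335.FT.Elt

/-!
# S2465, `F₄(2)`: one parabolic subgroup (helper335)

`par` : if the certificates hold, every `g * x`, `1 ≠ g ∈ U_J`, `x ∈ V_J`, is a product of two elements of order prime
to 6.
-/

set_option autoImplicit false

namespace Cfsg.Agent.H335.FT

open Cfsg.Agent.H78.Pw

/-- every element of the coset `u V_J` -/
def Good (Ql : List ℕ) (u : GF) : Prop := ∀ x ∈ Cl Ql, Pr 6 (u * x)

/-- one representative -/
def chkRep (Nl Ql Zl u : List ℕ) : List PD → Bool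
  | [D] => su D.c Nl && (D.chkA u && (D.chkZ Zl && (D.chkV Zl Ql && D.f.isEmpty)))
  | [D1, D2, D3] => (su D1.c Nl && (D1.chkA u && (D1.chkZ Zl && D1.chkV Zl Ql))) &&
      ((su D2.c Nl && (D2.chkA u && (D2.chkZ Zl && D2.chkV Zl Ql))) &&
      ((su D3.c Nl && (D3.chkA u && (D3.chkZ Zl && D3.chkV Zl Ql))) &&
      Ql.all fun r => !((me r D1.f ^^ me r D2.f) ^^ me r D3.f)))
  | _ => false

section

variable {Nl Ql Zl : List ℕ} (h : QZ (Cl Ql) (Cl Zl)) (hN : ∀ a ∈ Nl, Nz (Cl Ql) (Cl Zl) (gx a))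

include h hN

theorem nz_pair {u : List ℕ} (hu : ∀ r ∈ u, r ∈ Nl) {D : PD} (hc : su D.c Nl = true) :
    Nz (Cl Ql) (Cl Zl) D.a ∧ Nz (Cl Ql) (Cl Zl) (D.b u) := by
  refine ⟨nz_wd hN (sub_of_su hc), nz_wd hN fun r hr => ?_⟩
  rw [List.mem_append, List.mem_reverse] at hr
  rcases hr with hr | hr
  · exact sub_of_su hc r hr
  · exact hu r hr

theorem good_full {u : List ℕ} (hu : ∀ r ∈ u, r ∈ Nl) {D : PD} (hc : su D.c Nl = true) (hA : D.chkA u = true)
    (hZ : D.chkZ Zl = true) (hV : D.chkV Zl Ql = true) (hf : D.f.isEmpty = true) : Good Ql (wd u) := by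
  intro x hx
  obtain ⟨ha, hb⟩ := nz_pair h hN hu hc
  refine PD.sound h ha hb hA hZ ?_
  have : Cl Ql ≤ cov h ha hb := by
    change Subgroup.closure _ ≤ _
    rw [Subgroup.closure_le]
    rintro _ ⟨r, hr, rfl⟩
    by_cases hz : r ∈ Zl
    · exact Z_le_cov h ha hb (gx_mem_Cl hz)
    · have h1 := PD.vcov h ha hb hA hV hr hz
      have h2 : me r D.f = false := by
        rw [List.isEmpty_iff.1 hf]; rfl
      rwa [h2, if_neg (by simp), mul_one] at h1
  exact this hx

theorem good_triple {u : List ℕ} (hu : ∀ r ∈ u, r ∈ Nl) {D : Fin 3 → PD} (hc : ∀ i, su (D i).c Nl = true)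
    (hA : ∀ i, (D i).chkA u = true) (hZ : ∀ i, (D i).chkZ Zl = true) (hV : ∀ i, (D i).chkV Zl Ql = true)
    (hf : ∀ r ∈ Ql, ((me r (D 0).f ^^ me r (D 1).f) ^^ me r (D 2).f) = false) : Good Ql (wd u) := by
  intro x hx
  have hab := fun i => nz_pair h hN hu (hc i)
  have hi0 : ∀ i, gx (D i).i0 ∈ Cl Ql := by
    intro i
    have := hV i
    unfold PD.chkV at this
    rw [Bool.and_eq_true] at this
    exact gx_mem_Cl (mem_of_me this.1)
  obtain ⟨i, hi⟩ := triple h (X := gx '' {r | r ∈ Ql}) rfl (C := fun i => cov h (hab i).1 (hab i).2)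
    (y := fun i => gx (D i).i0) hi0 (fun i => gx_mul_self _) (fun i => Z_le_cov h _ _) (by
      rintro _ ⟨r, hr, rfl⟩
      by_cases hz : r ∈ Zl
      · refine ⟨fun _ => false, rfl, fun i => ?_⟩
        simp only [Bool.false_eq_true, if_false, mul_one]
        exact Z_le_cov h _ _ (gx_mem_Cl hz)
      · exact ⟨fun i => me r (D i).f, hf r hr, fun i => PD.vcov h (hab i).1 (hab i).2 (hA i) (hV i) hr hz⟩) x hx
  exact PD.sound h (hab i).1 (hab i).2 (hA i) (hZ i) hi

theorem good_of_chk {u : List ℕ} (hu : ∀ r ∈ u, r ∈ Nl) {Ds : List PD} (hc : chkRep Nl Ql Zl u Ds = true) :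
    Good Ql (wd u) := by
  match Ds with
  | [] => simp [chkRep] at hc
  | [D] =>
    simp only [chkRep, Bool.and_eq_true] at hc
    obtain ⟨h1, h2, h3, h4, h5⟩ := hc
    exact good_full h hN hu h1 h2 h3 h4 h5
  | [_, _] => simp [chkRep] at hc
  | [D1, D2, D3] =>
    simp only [chkRep, Bool.and_eq_true] at hc
    obtain ⟨⟨a1, a2, a3, a4⟩, ⟨b1, b2, b3, b4⟩, ⟨c1, c2, c3, c4⟩, hx⟩ := hc
    rw [List.all_eq_true] at hx
    refine good_triple h hN hu (D := ![D1, D2, D3]) ?_ ?_ ?_ ?_ ?_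
    · intro i; fin_cases i <;> assumption
    · intro i; fin_cases i <;> assumption
    · intro i; fin_cases i <;> assumption
    · intro i; fin_cases i <;> assumption
    · intro r hr
      have := hx r hr
      rw [Bool.not_eq_true'] at this
      exact this
  | _ :: _ :: _ :: _ :: _ => simp [chkRep] at hc

theorem Good.conj {u u' : GF} (hu : Good Ql u') {a : ℕ} (ha : a ∈ Nl) (e : gx a * u = u' * gx a) : Good Ql u := by
  intro x hx
  refine Pr.of_conj (x := gx a) ?_
  have h1 := hu (gx a * x * (gx a)⁻¹) ((hN a ha).q x hx)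
  have e2 : gx a * (u * x) * (gx a)⁻¹ = u' * (gx a * x * (gx a)⁻¹) := by
    calc gx a * (u * x) * (gx a)⁻¹ = (gx a * u) * x * (gx a)⁻¹ := by group
      _ = u' * (gx a * x * (gx a)⁻¹) := by rw [e]; group
  rw [e2]
  exact h1

end

/-! ### the words with a given mask -/

/-- the word with the mask `m` -/
def mw : List ℕ → ℕ → List ℕ
  | [], _ => []
  | r :: t, m => bif Nat.beq (m % 2) 1 then r :: mw t (m / 2) else mw t (m / 2)

theorem mw_zero (l : List ℕ) : mw l 0 = [] := by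
  induction l with
  | nil => rfl
  | cons r t ih =>
    change (bif Nat.beq (0 % 2) 1 then r :: mw t (0 / 2) else mw t (0 / 2)) = []
    rw [show (Nat.beq (0 % 2) 1) = false from rfl, cond_false, Nat.zero_div, ih]

theorem exists_mw {l w : List ℕ} (h : w.Sublist l) : ∃ m < 2 ^ l.length, mw l m = w := by
  induction h with
  | slnil => exact ⟨0, by simp, rfl⟩
  | @cons w l r _ ih =>
    obtain ⟨m, hm, e⟩ := ih
    refine ⟨2 * m, ?_, ?_⟩
    · rw [List.length_cons, pow_succ]; omega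
    · have h1 : 2 * m % 2 = 0 := by omega
      have h2 : 2 * m / 2 = m := by omega
      change (bif Nat.beq (2 * m % 2) 1 then _ else _) = _
      rw [h1, h2]
      exact e
  | @cons_cons w l r _ ih =>
    obtain ⟨m, hm, e⟩ := ih
    refine ⟨2 * m + 1, ?_, ?_⟩
    · rw [List.length_cons, pow_succ]; omega
    · have h1 : (2 * m + 1) % 2 = 1 := by omega
      have h2 : (2 * m + 1) / 2 = m := by omega
      change (bif Nat.beq ((2 * m + 1) % 2) 1 then _ else _) = _
      rw [h1, h2, ← e]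
      rfl

theorem mem_mw {l : List ℕ} {m : ℕ} : ∀ r ∈ mw l m, r ∈ l := by
  induction l generalizing m with
  | nil => intro r hr; exact hr
  | cons s t ih =>
    intro r hr
    change r ∈ (bif Nat.beq (m % 2) 1 then s :: mw t (m / 2) else mw t (m / 2)) at hr
    cases hb : Nat.beq (m % 2) 1
    · rw [hb, cond_false] at hr
      exact List.mem_cons_of_mem _ (ih r hr)
    · rw [hb, cond_true] at hr
      rcases List.mem_cons.1 hr with rfl | hr
      · exact List.mem_cons_self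
      · exact List.mem_cons_of_mem _ (ih r hr)

/-- an entry of the table: letter, parent, depth -/
def ent (PT m : ℕ) : ℕ := (PT >>> (20 * m)) % 1048576

def letr (PT m : ℕ) : ℕ := ent PT m % 64
def prt (PT m : ℕ) : ℕ := (ent PT m / 64) % 512
def dep (PT m : ℕ) : ℕ := ent PT m / 32768

/-- the check of the entry of `m` -/
def chkE (Pl Nl reps : List ℕ) (PT m : ℕ) : Bool :=
  Nat.beq m 0 || (me m reps || (Nat.blt (dep PT (prt PT m)) (dep PT m) && (Nat.blt 0 (prt PT m) &&
    (me (letr PT m) Nl && eqW (letr PT m :: mw Pl m) (mw Pl (prt PT m) ++ [letr PT m])))))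

theorem good_all {Nl Ql Zl Pl reps : List ℕ} {PT : ℕ} (h : QZ (Cl Ql) (Cl Zl))
    (hN : ∀ a ∈ Nl, Nz (Cl Ql) (Cl Zl) (gx a))
    (hr : ∀ m ∈ reps, Good Ql (wd (mw Pl m))) (hE : (List.range 512).all (chkE Pl Nl reps PT) = true) :
    ∀ m < 512, m ≠ 0 → Good Ql (wd (mw Pl m)) := by
  have key : ∀ d m, dep PT m ≤ d → m < 512 → m ≠ 0 → Good Ql (wd (mw Pl m)) := by
    intro d
    induction d using Nat.strong_induction_on with
    | _ d ih =>
      intro m hd hm hm0
      rw [List.all_eq_true] at hE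
      have h1 := hE m (List.mem_range.2 hm)
      unfold chkE at h1
      simp only [Bool.or_eq_true, Bool.and_eq_true, Nat.blt_eq] at h1
      rcases h1 with h1 | h1 | ⟨h1, h2, h3, h4⟩
      · exact absurd (Nat.eq_of_beq_eq_true h1) hm0
      · exact hr m (mem_of_me h1)
      · have h5 : prt PT m < 512 := Nat.mod_lt _ (by norm_num)
        have h6 := ih (dep PT (prt PT m)) (Nat.lt_of_lt_of_le h1 hd) (prt PT m) (Nat.le_refl _) h5
          (Nat.pos_iff_ne_zero.1 h2)
        have h7 := wd_eq h4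
        rw [wd_cons, wd_append, wd_cons, wd_nil, mul_one] at h7
        exact Good.conj h hN h6 (mem_of_me h3) h7
  exact fun m hm hm0 => key (dep PT m) m (Nat.le_refl _) hm hm0

/-- **One parabolic subgroup.** -/
theorem par {Nl Ql Zl Pl : List ℕ} {EN EF : List (ℕ × ℕ × List ℕ)} {t PT : ℕ} {R : List (ℕ × List PD)}
    (h1 : su Zl Ql = true) (h2 : chkC Ql Zl = true) (h3 : chkQ Ql Zl t = true) (h4 : chkN Nl Ql Zl EN = true)
    (h5 : chkFl EF Pl = true) (h6 : su Pl Nl = true) (h7 : Pl.length = 9)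
    (h8 : (List.range 512).all (chkE Pl Nl (R.map Prod.fst) PT) = true)
    (h9 : R.all (fun e => chkRep Nl Ql Zl (mw Pl e.1) e.2) = true) :
    ∀ g ∈ Cl Pl, g ≠ 1 → ∀ x ∈ Cl Ql, Pr 6 (g * x) := by
  have hq := qz h1 h2 h3
  have hN : ∀ a ∈ Nl, Nz (Cl Ql) (Cl Zl) (gx a) := fun a ha => nz h4 h1 ha
  have hr : ∀ m ∈ R.map Prod.fst, Good Ql (wd (mw Pl m)) := by
    intro m hm
    rw [List.mem_map] at hm
    obtain ⟨e, he, rfl⟩ := hm
    rw [List.all_eq_true] at h9
    exact good_of_chk hq hN (fun r hr => sub_of_su h6 r (mem_mw r hr)) (h9 e he)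
  have hall := good_all hq hN hr h8
  intro g hg hg1 x hx
  have hfl : Fl gx Pl := fl_of_chk h5
  have hfl2 := hfl.exists_prod gx_inv
  obtain ⟨w, hw, e⟩ := hfl2 g hg
  have e' : g = wd w := e
  subst e'
  clear e
  obtain ⟨m, hm, rfl⟩ := exists_mw hw
  rw [h7] at hm
  refine hall m hm ?_ x hx
  rintro rfl
  rw [mw_zero] at hg1
  exact hg1 rfl

end Cfsg.Agent.H335.FT
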