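import Cfsg.Agent.H335.FT.CertP
import Cfsg.Agent.H335.FT.Main
import Cfsg.Agent.H612.Ore.SpCover
import Cfsg.Agent.FourTwo.Facts2
import Cfsg.Agent.FourTwo.AutF4

/-!
# S2465, `F₄(2)`: the elements of `Ps = C(x 44)` (helper335)

* `tw j` : the words of the seven transvections; `good_word` : the cosets of `Q` of the thirty words;
* `ps_of` : the elements of `Ps`, given that every element of `Ps` is conjugate in `Ps` into the coset of one of the
  thirty words.
-/

set_option autoImplicit false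

namespace Cfsg.Agent.H335.FT

open Cfsg.Agent.H78.Pw Cfsg.Agent.FourTwo.Cent Cfsg.Agent.FourTwo.Par

/-- words of the seven transvections of `H612/Ore/SpCover` -/
def tw (j : ℕ) : List ℕ := [[18], [29], [23, 19, 23], [30, 20, 30], [27], [20], [28]].getD j []

theorem gx_eq' {r : ℕ} (hr : r ∈ used) : gx r = Cfsg.Agent.FourTwo.Base.x r := by
  unfold gx
  rw [if_pos hr]
  rfl

theorem wd_eq_base {w : List ℕ} (h : ∀ r ∈ w, r ∈ used) : wd w = Cfsg.Agent.FourTwo.Base.wd w := by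
  induction w with
  | nil => rfl
  | cons r w ih =>
    rw [wd_cons, Cfsg.Agent.FourTwo.Base.wd_cons, gx_eq' (h r List.mem_cons_self),
      ih fun s hs => h s (List.mem_cons_of_mem _ hs)]

theorem tw_eq (j : ℕ) : Cfsg.Agent.FourTwo.Base.wd (tw j) = wd (CertP.tw2 j) := by
  have h1 : wd (CertP.tw2 j) = Cfsg.Agent.FourTwo.Base.wd (CertP.tw2 j) := by
    refine wd_eq_base ?_
    rcases j with _ | _ | _ | _ | _ | _ | _ | j
    · decide
    · decide
    · decide
    · decide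
    · decide
    · decide
    · decide
    · intro r hr
      exact absurd hr (by simp [CertP.tw2])
  rw [h1]
  rcases j with _ | _ | _ | _ | _ | _ | _ | j
  · exact Cfsg.Agent.FourTwo.Base.wd_eq _ _ (by decide +kernel)
  · rfl
  · exact Cfsg.Agent.FourTwo.Base.wd_eq _ _ (by decide +kernel)
  · rfl
  · rfl
  · rfl
  · rfl
  · rfl

theorem flat_eq (w : List ℕ) : Cfsg.Agent.FourTwo.Base.wd (w.flatMap tw) = wd (w.flatMap CertP.tw2) := by
  induction w with
  | nil => rfl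
  | cons j w ih =>
    rw [List.flatMap_cons, List.flatMap_cons, Cfsg.Agent.FourTwo.Base.wd_append, wd_append, tw_eq, ih]

theorem RG_le_Cl : RG Cfsg.Agent.FourTwo.Facts2.qsP ≤ Cl CertB.Ql := by
  refine RG_le fun r hr hp => ?_
  have hp' : 33 ≤ r := of_decide_eq_true hp
  have key : ∀ r : Fin 48, 33 ≤ (r : ℕ) → (r : ℕ) ∈ used ∧ (r : ℕ) ∈ CertB.Ql := by decide
  obtain ⟨k1, k2⟩ := key ⟨r, hr⟩ hp'
  rw [← gx_eq' k1]
  exact gx_mem_Cl k2

theorem pow_of_mem {H : Subgroup GF} {N : ℕ} (hN : Nat.card ↥H = N) {q : GF} (hq : q ∈ H) : q ^ N = 1 := by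
  subst hN
  have h2 : (⟨q, hq⟩ : ↥H) ^ Nat.card ↥H = 1 := pow_card_eq_one'
  have h3 := congrArg Subtype.val h2
  rwa [Subgroup.coe_pow, Subgroup.coe_one] at h3

theorem pow_RG {q : GF} (hq : q ∈ RG Cfsg.Agent.FourTwo.Facts2.qsP) : q ^ 2 ^ 24 = 1 := by
  have h1 : q ∈ Cfsg.Agent.FourTwo.BN.U := by
    rw [Cfsg.Agent.FourTwo.Par.U_eq_RG]
    refine RG_mono (fun r hr hp => ?_) hq
    have hp' : 33 ≤ r := of_decide_eq_true hp
    exact decide_eq_true (by omega)
  exact pow_of_mem Cfsg.Agent.FourTwo.AutF4.card_U h1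

theorem rws_all : (Cfsg.Agent.H612.Ore.rws.all fun w => w.isEmpty ||
    ((CertP.R0 ++ CertP.R1 ++ CertP.R2 ++ CertP.R3).map Prod.fst).contains w) = true := by decide +kernel

/-- **The cosets of the thirty words.** -/
theorem good_word {w : List ℕ} (hw : w ∈ Cfsg.Agent.H612.Ore.rws) {q : GF}
    (hq : q ∈ RG Cfsg.Agent.FourTwo.Facts2.qsP) : Pr 6 (Cfsg.Agent.FourTwo.Base.wd (w.flatMap tw) * q) := by
  have h1 := (List.all_eq_true.1 rws_all) w hw
  rw [Bool.or_eq_true] at h1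
  rcases h1 with h1 | h1
  · rw [List.isEmpty_iff.1 h1, List.flatMap_nil, Cfsg.Agent.FourTwo.Base.wd_nil, one_mul]
    exact two_GF (pow_RG hq)
  · rw [List.contains_iff_mem] at h1
    rw [flat_eq]
    exact CertP.good h1 q (RG_le_Cl hq)

/-- **The elements of `Ps = C(x 44)`**, from the class representatives. -/
theorem ps_of (h : ∀ g ∈ Ps, ∃ w ∈ Cfsg.Agent.H612.Ore.rws, ∃ y ∈ Ps, ∃ q ∈ RG Cfsg.Agent.FourTwo.Facts2.qsP,
    y * g * y⁻¹ = Cfsg.Agent.FourTwo.Base.wd (w.flatMap tw) * q) : ∀ g ∈ Ps, Pr 6 g := by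
  intro g hg
  obtain ⟨w, hw, y, -, q, hq, e⟩ := h g hg
  refine Pr.of_conj (x := y) ?_
  rw [e]
  exact good_word hw hq

end Cfsg.Agent.H335.FT
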